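import Cfsg.Prelude.Def_Spor_Conway
import Cfsg.Agent.Lib.Lie.AltPres
import Cfsg.Agent.Lib.Spor.CoSuz.Mat
import Cfsg.Agent.Lib.Spor.Leech.Monomial
import Mathlib.GroupTheory.SpecificGroups.Alternating.Simple

/-!
Alternating subgroups of the first Conway group given by rows of lifts of three-cycles.
-/

set_option autoImplicit false
set_option linter.style.haveILetI false
set_option linter.unusedSectionVars false

noncomputable section

namespace Cfsg.Agent.Spor.CoAlt

open Cfsg Cfsg.Agent.Lie.Carmichael Cfsg.Agent.Spor.Leech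
open Cfsg.Agent.Spor.CoSuz (HasT chkT mulP oneP negX ofT hasT_ofT hasT_one)

/-! ### The quotient -/

/-- The projection onto the quotient by the centre. -/
def mk : Co0 →* Spor.Co1 := QuotientGroup.mk' (Subgroup.center Co0)

theorem mk_surjective : Function.Surjective mk := QuotientGroup.mk'_surjective _

theorem negCo_comm (g : Co0) : g * negCo = negCo * g :=
  Subgroup.mem_center_iff.1 (mem_center_iff.2 (Or.inr rfl)) g

theorem negCo_sq : negCo * negCo = (1 : Co0) := ext_axis fun i => by
  rw [mul_smul, negCo_apply, negCo_apply, neg_neg, one_smul]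

theorem negCo_ne : negCo ≠ (1 : Co0) := fun h => by
  have h1 := congrArg (fun g : Co0 => (((g • axis none : leechLattice) : Vec) none)) h
  simp only [negCo_apply, one_smul, AddSubgroup.coe_neg, Pi.neg_apply, axis_val, Pi.single_eq_same] at h1
  exact absurd h1 (by decide)

theorem mk_eq_iff {a b : Co0} : mk a = mk b ↔ b = a ∨ b = negCo * a := by
  rw [mk, QuotientGroup.mk'_eq_mk']
  constructor
  · rintro ⟨c, hc, rfl⟩
    rcases mem_center_iff.1 hc with rfl | rfl
    · exact Or.inl (mul_one a)
    · exact Or.inr (negCo_comm a)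
  · rintro (rfl | rfl)
    · exact ⟨1, one_mem _, mul_one _⟩
    · exact ⟨negCo, mem_center_iff.2 (Or.inr rfl), negCo_comm a⟩

theorem neg_pow_odd {n : ℕ} (hn : Odd n) : (negCo : Co0) ^ n = negCo := by
  obtain ⟨k, rfl⟩ := hn
  rw [pow_add, pow_mul, pow_two, negCo_sq, one_pow, one_mul, pow_one]

theorem eq_of_mk_odd {n : ℕ} (hn : Odd n) {a b : Co0} (ha : a ^ n = 1) (hb : b ^ n = 1) (h : mk a = mk b) :
    a = b := by
  rcases mk_eq_iff.1 h with e | e
  · exact e.symm
  · exfalso
    rw [e, (show Commute negCo a from (negCo_comm a).symm).mul_pow, ha, mul_one, neg_pow_odd hn] at hb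
    exact negCo_ne hb

/-- An element commuting with the image of an element of odd order commutes with it. -/
theorem comm_of_mk {n : ℕ} (hn : Odd n) {g x : Co0} (hg : g ^ n = 1) (h : mk x * mk g = mk g * mk x) :
    x * g = g * x := by
  have h1 : mk (x * g * x⁻¹) = mk g := by
    rw [map_mul, map_mul, map_inv, h, mul_inv_cancel_right]
  have h2 := eq_of_mk_odd hn (by rw [conj_pow, hg, mul_one, mul_inv_cancel]) hg h1
  exact mul_inv_eq_iff_eq_mul.1 h2

/-- Twice a subgroup of the quotient is at most a subgroup containing its preimage. -/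
theorem two_mul_card_le [Finite Co0] {S : Subgroup Spor.Co1} {K : Subgroup Co0} (hz : Subgroup.center Co0 ≤ K)
    (h : ∀ x : Co0, mk x ∈ S → x ∈ K) : 2 * Nat.card S ≤ Nat.card K := by
  have hmap : S ≤ K.map mk := fun c hc => by
    obtain ⟨x, rfl⟩ := mk_surjective c
    exact ⟨x, h x hc, rfl⟩
  let f : ↥K →* ↥(K.map mk) := mk.subgroupMap K
  have hf : Function.Surjective f := mk.subgroupMap_surjective K
  have hker : 2 ≤ Nat.card f.ker := by
    haveI : Nontrivial f.ker := ⟨⟨⟨⟨negCo, hz (mem_center_iff.2 (Or.inr rfl))⟩, Subtype.ext (by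
      show mk negCo = 1
      exact (QuotientGroup.eq_one_iff _).2 (mem_center_iff.2 (Or.inr rfl)))⟩, 1, fun e =>
        negCo_ne (congrArg (fun y : f.ker => ((y : K) : Co0)) e)⟩⟩
    exact Finite.one_lt_card
  have hcard : Nat.card K = Nat.card f.ker * Nat.card ↥(K.map mk) := by
    rw [← Subgroup.index_mul_card f.ker, Subgroup.index_ker, mul_comm, MonoidHom.range_eq_top.2 hf,
      Subgroup.card_top]
  rw [hcard]
  exact Nat.mul_le_mul hker (Subgroup.card_le_of_le hmap)

/-- Twice the centraliser of the image is at most the centraliser of the element. -/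
theorem card_centralizer_mk [Finite Co0] {n : ℕ} (hn : Odd n) {g : Co0} (hg : g ^ n = 1) :
    2 * Nat.card ↥(Subgroup.centralizer ({mk g} : Set Spor.Co1)) ≤
      Nat.card ↥(Subgroup.centralizer ({g} : Set Co0)) :=
  two_mul_card_le (Subgroup.center_le_centralizer _) fun _ hc => Subgroup.mem_centralizer_singleton_iff.2
    (comm_of_mk hn hg (Subgroup.mem_centralizer_singleton_iff.1 hc))

/-! ### Homomorphisms of alternating groups -/

variable {I : Type*} [DecidableEq I] [Fintype I] {G : Type*} [Group G]

/-- Carmichael's relations give a homomorphism of the alternating group. -/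
theorem exists_hom {x : I → G} (h3 : ∀ i, x i ^ 3 = 1) (h2 : ∀ i j, i ≠ j → (x i * x j) ^ 2 = 1) :
    ∃ f : alternatingGroup (Pt I) →* G, ∀ i, f (cyc i) = x i := by
  let v : I → G × alternatingGroup (Pt I) := fun i => (x i, cyc i)
  let H : Subgroup (G × alternatingGroup (Pt I)) := Subgroup.closure (Set.range v)
  let v' : I → H := fun i => ⟨v i, Subgroup.subset_closure ⟨i, rfl⟩⟩
  let π : H →* alternatingGroup (Pt I) := (MonoidHom.snd _ _).comp H.subtype
  have hgen : Subgroup.closure (Set.range v') = ⊤ := by
    apply Subgroup.map_injective H.subtype_injective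
    rw [MonoidHom.map_closure, ← MonoidHom.range_eq_map, Subgroup.range_subtype, ← Set.range_comp]
    rfl
  have hb := bijective (x := v')
    (fun i => Subtype.ext (Prod.ext (h3 i) (cyc_cube i)))
    (fun i j h => Subtype.ext (Prod.ext (h2 i j h) (cyc_pair h))) hgen π (fun i => rfl)
  let e := MulEquiv.ofBijective π hb
  refine ⟨((MonoidHom.fst _ _).comp H.subtype).comp e.symm.toMonoidHom, fun i => ?_⟩
  have he : e.symm (cyc i) = v' i := by
    rw [MulEquiv.symm_apply_eq]
    rfl
  show (((e.symm (cyc i) : H) : G × alternatingGroup (Pt I))).1 = x i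
  rw [he]

/-- A homomorphism of a large alternating group moving a three-cycle is injective. -/
theorem hom_injective (hI : 3 ≤ Fintype.card I) {f : alternatingGroup (Pt I) →* G} {i : I} (h : f (cyc i) ≠ 1) :
    Function.Injective f := by
  haveI : IsSimpleGroup (alternatingGroup (Pt I)) :=
    alternatingGroup.isSimpleGroup (by rw [Nat.card_eq_fintype_card, Fintype.card_option, Fintype.card_option]; omega)
  rw [← MonoidHom.ker_eq_bot_iff]
  refine ((MonoidHom.normal_ker f).eq_bot_or_eq_top).resolve_right fun e => h ?_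
  rw [← MonoidHom.mem_ker, e]
  exact Subgroup.mem_top _

/-- An element commuting with the generators commutes with the image. -/
theorem comm_range {f : alternatingGroup (Pt I) →* G} {c : G} (h : ∀ i, Commute c (f (cyc i)))
    (σ : alternatingGroup (Pt I)) : Commute c (f σ) := by
  have hle : f.range ≤ Subgroup.centralizer ({c} : Set G) := by
    rw [range_eq, Subgroup.closure_le]
    rintro _ ⟨i, rfl⟩
    exact Subgroup.mem_centralizer_singleton_iff.2 (h i).eq.symm
  exact (Subgroup.mem_centralizer_singleton_iff.1 (hle ⟨σ, rfl⟩)).symm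

/-- The product of two commuting injective homomorphisms, the second from a group without centre. -/
theorem prod_injective {A B : Type*} [Group A] [Group B] {f : A →* G} {h : B →* G} (hf : Function.Injective f)
    (hh : Function.Injective h) (hc : ∀ a b, Commute (f a) (h b)) (hB : Subgroup.center B = ⊥) :
    Function.Injective (f.noncommCoprod h hc) := by
  refine (injective_iff_map_eq_one _).2 fun p hp => ?_
  rw [MonoidHom.noncommCoprod_apply] at hp
  have hcomm : p.2 ∈ Subgroup.center B := Subgroup.mem_center_iff.2 fun b => hh (by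
    rw [map_mul, map_mul, eq_inv_of_mul_eq_one_right hp]
    exact (hc p.1 b).inv_left.eq.symm)
  rw [hB, Subgroup.mem_bot] at hcomm
  rw [hcomm, map_one, mul_one] at hp
  exact Prod.ext (hf (by rw [hp, Prod.fst_one, map_one])) hcomm

/-! ### Lifts given by rows -/

/-- The rows of minus the identity. -/
def negP : List ℕ := oneP.map negX

theorem hasT_neg : HasT negCo negP := by
  have h := hasT_one.neg
  rwa [mul_one] at h

theorem mk_negCo : mk negCo = 1 := (QuotientGroup.eq_one_iff _).2 (mem_center_iff.2 (Or.inr rfl))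

theorem rows_of_mk_one {g : Co0} {T : List ℕ} (hg : HasT g T) (h : mk g = 1) : (T == oneP || T == negP) = true := by
  rw [Bool.or_eq_true, beq_iff_eq, beq_iff_eq]
  have key : ∀ {k : Co0} {U : List ℕ}, HasT k U → g = k → T = U := fun {k U} hk e => by
    subst e
    exact List.ext_getElem (hg.len.trans hk.len.symm) fun i hi hi' => by
      have h24 : i < 24 := hg.len ▸ hi
      have := (hg.img (Golay.pt i)).trans (hk.img (Golay.pt i)).symm
      rwa [Golay.idx_pt h24, List.getD_eq_getElem _ _ hi, List.getD_eq_getElem _ _ hi'] at this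
  rcases mk_eq_iff.1 (show mk g = mk 1 by rw [h, map_one]) with e | e
  · exact Or.inl (key hasT_one e.symm)
  · refine Or.inr (key hasT_neg ?_)
    calc g = negCo * (negCo * g) := by rw [← mul_assoc, negCo_sq, one_mul]
      _ = negCo := by rw [← e, mul_one]

/-- Cubes trivial and squares of products central. -/
def chkCarm (L : List (List ℕ)) : Bool :=
  L.all chkT && ((List.range L.length).all fun i =>
    (mulP (L.getD i []) (mulP (L.getD i []) (L.getD i [])) == oneP)) &&
  (List.range L.length).all fun i => (List.range L.length).all fun j => Nat.beq i j ||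
    (fun M => M == oneP || M == negP) (mulP (mulP (L.getD i []) (L.getD j [])) (mulP (L.getD i []) (L.getD j [])))

/-- The lift with the given rows. -/
def lift (L : List (List ℕ)) (i : ℕ) : Co0 := ofT (L.getD i [])

theorem lift_spec {L : List (List ℕ)} (h : chkCarm L = true) {i : ℕ} (hi : i < L.length) :
    HasT (lift L i) (L.getD i []) ∧ lift L i ^ 3 = 1 ∧
      ∀ j < L.length, i ≠ j → mk (lift L i * lift L j) ^ 2 = 1 := by
  simp only [chkCarm, Bool.and_eq_true, List.all_eq_true, List.mem_range, Bool.or_eq_true, beq_iff_eq] at h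
  obtain ⟨⟨hT, h3⟩, h2⟩ := h
  have hh : ∀ {k}, k < L.length → HasT (lift L k) (L.getD k []) := fun {k} hk =>
    hasT_ofT (hT _ (by rw [List.getD_eq_getElem _ _ hk]; exact List.getElem_mem hk))
  have e := h3 i hi
  refine ⟨hh hi, ?_, fun j hj hij => ?_⟩
  · rw [pow_succ', pow_two]
    exact ((hh hi).mul ((hh hi).mul (hh hi))).eq (e ▸ hasT_one)
  · rw [← map_pow, pow_two]
    have hm := ((hh hi).mul (hh hj)).mul ((hh hi).mul (hh hj))
    rcases h2 i hi j hj with e | e | e
    · exact absurd (Nat.eq_of_beq_eq_true e) hij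
    · rw [hm.eq (e ▸ hasT_one), map_one]
    · rw [hm.eq (e ▸ hasT_neg)]
      exact (QuotientGroup.eq_one_iff _).2 (mem_center_iff.2 (Or.inr rfl))

/-- Members of a list of rows commute with given rows up to sign. -/
def chkComm (T : List ℕ) (L : List (List ℕ)) : Bool :=
  L.all fun U => mulP T U == mulP U T || mulP T U == (mulP U T).map negX

theorem mk_comm {T U : List ℕ} {a b : Co0} (ha : HasT a T) (hb : HasT b U)
    (h : (mulP T U == mulP U T || mulP T U == (mulP U T).map negX) = true) : Commute (mk a) (mk b) := by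
  show mk a * mk b = mk b * mk a
  rw [← map_mul, ← map_mul, Bool.or_eq_true, beq_iff_eq, beq_iff_eq] at *
  rcases h with e | e
  · rw [(ha.mul hb).eq (e ▸ hb.mul ha)]
  · rw [(ha.mul hb).eq (e ▸ (hb.mul ha).neg), map_mul,
      show mk negCo = 1 from (QuotientGroup.eq_one_iff _).2 (mem_center_iff.2 (Or.inr rfl)), one_mul]

end Cfsg.Agent.Spor.CoAlt

end
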