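import Cfsg.Agent.Lib.Spor.CoAlt.SevenBound
import Cfsg.Agent.Lib.Spor.CoSuz.Main
import Cfsg.Agent.S5383
import Mathlib.GroupTheory.SpecificGroups.Alternating.Centralizer

/-!
The centraliser of a subgroup of order seven of the first Conway group: `7 × A₇`.
-/

set_option autoImplicit false
set_option maxRecDepth 100000
set_option linter.style.haveILetI false
set_option Elab.async false

noncomputable section

namespace Cfsg.Agent.Spor.CoAlt

open Cfsg Cfsg.Agent.Lie.Carmichael Cfsg.Agent.Spor.Leech Equiv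
open Cfsg.Agent.Spor.CoSuz (HasT chkT mulP oneP negX ent ofT hasT_ofT hasT_one)

/-! ### The lifts -/

theorem g_pow : gC ^ 7 = 1 := by
  have h := hasT_g
  have e : gC ^ 7 = gC * (gC * (gC * (gC * (gC * (gC * gC))))) := by simp only [pow_succ', pow_zero, mul_one]
  rw [e]
  exact (h.mul (h.mul (h.mul (h.mul (h.mul (h.mul h)))))).eq (eq_of_beq g_ok.2.1 ▸ hasT_one)

theorem mk_g_ne : mk gC ≠ 1 := fun h => by
  have h' := rows_of_mk_one hasT_g h
  rw [g_ok.2.2] at h'
  exact Bool.noConfusion h'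

/-- The five lifts. -/
def xC (i : Fin 5) : Co0 := lift sevenT i

theorem seven_lt (i : Fin 5) : (i : ℕ) < sevenT.length := seven_ok.2.1.symm ▸ i.2

theorem hasT_x (i : Fin 5) : HasT (xC i) (sevenT.getD i []) := (lift_spec seven_ok.1 (seven_lt i)).1

theorem x_cube (i : Fin 5) : xC i ^ 3 = 1 := (lift_spec seven_ok.1 (seven_lt i)).2.1

theorem x_zero : xC 0 = CoSuz.aC := by
  have h := hasT_x 0
  rw [Fin.val_zero, seven_ok.2.2] at h
  exact h.eq CoSuz.hasT_a

theorem x_comm (i : Fin 5) : xC i * gC = gC * xC i := by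
  have h := eq_of_beq (List.all_eq_true.1 g_comm (sevenT.getD i []) (by
    rw [List.getD_eq_getElem _ _ (seven_lt i)]; exact List.getElem_mem _))
  exact ((hasT_x i).mul hasT_g).eq (h ▸ hasT_g.mul (hasT_x i))

theorem exists_aSeven : ∃ f : alternatingGroup (Pt (Fin 5)) →* Spor.Co1, ∀ i, f (cyc i) = mk (xC i) :=
  exists_hom (fun i => by rw [← map_pow, x_cube, map_one]) (fun i j h => by
    rw [← map_mul]
    exact (lift_spec seven_ok.1 (seven_lt i)).2.2 j (seven_lt j) (Fin.val_ne_of_ne h))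

/-- The alternating group of degree seven in the quotient. -/
def aSeven : alternatingGroup (Pt (Fin 5)) →* Spor.Co1 := exists_aSeven.choose

theorem aSeven_cyc (i : Fin 5) : aSeven (cyc i) = mk (xC i) := exists_aSeven.choose_spec i

theorem aSeven_injective : Function.Injective aSeven := by
  refine hom_injective (i := (0 : Fin 5)) (by simp) fun h => ?_
  rw [aSeven_cyc, x_zero] at h
  exact CoSuz.a_ne (eq_of_mk_odd (by decide : Odd 3) CoSuz.a_cube (one_pow _) (by rw [h, map_one]))

/-- The subgroup of order seven in the quotient. -/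
def V : Subgroup Spor.Co1 := Subgroup.zpowers (mk gC)

theorem order_g : orderOf (mk gC) = 7 := by
  haveI : Fact (Nat.Prime 7) := ⟨by norm_num⟩
  exact orderOf_eq_prime (by rw [← map_pow, g_pow, map_one]) mk_g_ne

theorem card_V : Nat.card V = 7 := by rw [V, Nat.card_zpowers, order_g]

theorem g_commute (σ : alternatingGroup (Pt (Fin 5))) : Commute (mk gC) (aSeven σ) :=
  comm_range (fun i => by
    rw [aSeven_cyc]
    show mk gC * mk (xC i) = mk (xC i) * mk gC
    rw [← map_mul, ← map_mul, x_comm]) σ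

/-- The product subgroup. -/
def emb : ↥V × alternatingGroup (Pt (Fin 5)) →* Spor.Co1 :=
  V.subtype.noncommCoprod aSeven fun v σ => by
    obtain ⟨n, hn⟩ := v.2
    show Commute (v : Spor.Co1) (aSeven σ)
    rw [← hn]
    exact (g_commute σ).zpow_left n

theorem emb_injective : Function.Injective emb :=
  prod_injective V.subtype_injective aSeven_injective _ (alternatingGroup.center_eq_bot (by simp))

theorem card_dom : Nat.card (↥V × alternatingGroup (Pt (Fin 5))) = 17640 := by
  rw [Nat.card_prod, card_V, nat_card_alternatingGroup]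
  simp only [Nat.card_eq_fintype_card, Fintype.card_option, Fintype.card_fin]
  decide +kernel

/-- The centraliser. -/
abbrev C1 : Subgroup Spor.Co1 := Subgroup.centralizer ({mk gC} : Set Spor.Co1)

theorem emb_mem (p : ↥V × alternatingGroup (Pt (Fin 5))) : emb p ∈ C1 := by
  refine Subgroup.mem_centralizer_singleton_iff.2 ?_
  obtain ⟨⟨v, n, rfl⟩, σ⟩ := p
  rw [emb, MonoidHom.noncommCoprod_apply]
  exact (((Commute.refl (mk gC)).zpow_right n).mul_right (g_commute σ)).eq.symm

/-! ### The stabiliser of the three-cycle -/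

theorem card_comm_a [Finite Co0] :
    Nat.card ↥(Subgroup.centralizer ({gC} : Set Co0) ⊓ CoSuz.CA) ≤ 6 * 84 := by
  have hg : gC ∈ CoSuz.CA := CoSuz.mem_CA.2 (by rw [← x_zero]; exact (x_comm 0).symm)
  set b : CoSuz.Sq := QuotientGroup.mk' CoSuz.N0 ⟨gC, hg⟩ with hb
  haveI : Fact (Nat.Prime 7) := ⟨by norm_num⟩
  have hb1 : b ≠ 1 := fun h => by
    obtain ⟨k, -, hk⟩ := CoSuz.mem_N0.1 ((QuotientGroup.eq_one_iff _).1 h)
    have h6 : gC ^ 6 = 1 := by
      rcases hk with e | e <;> rw [show gC = _ from e]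
      · rw [← pow_mul, mul_comm, pow_mul, show 6 = 3 * 2 from rfl, pow_mul, CoSuz.a_cube, one_pow, one_pow]
      · rw [(show Commute negCo (CoSuz.aC ^ k) from (negCo_comm _).symm).mul_pow, ← pow_mul, mul_comm k,
          pow_mul, show 6 = 3 * 2 from rfl, pow_mul CoSuz.aC, CoSuz.a_cube, one_pow, one_pow, mul_one,
          show 3 * 2 = 2 * 3 from rfl, pow_mul, pow_two, negCo_sq, one_pow]
    have h1 : gC = 1 := by
      have h7 := g_pow
      rwa [pow_succ, h6, one_mul] at h7
    exact mk_g_ne (by rw [h1, map_one])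
  have hb7 : b ^ 7 = 1 := by
    rw [hb, ← map_pow]
    rw [show (⟨gC, hg⟩ : CoSuz.CA) ^ 7 = 1 from Subtype.ext g_pow, map_one]
  have hcardB : Nat.card ↥(Subgroup.zpowers b) = 7 := by rw [Nat.card_zpowers, orderOf_eq_prime hb7 hb1]
  have hSq : Nat.card CoSuz.Sq = 448345497600 := by
    obtain ⟨e⟩ := CoSuz.exists_equiv
    rw [← Nat.card_congr e.toEquiv, Cos.Suz.card_eq]
  let B : Sylow 7 CoSuz.Sq := Sylow.ofCard (Subgroup.zpowers b) (by
    rw [hcardB, hSq, show (448345497600 : ℕ) = 7 * 64049356800 by norm_num, Nat.factorization_mul (by norm_num) (by norm_num),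
      Finsupp.add_apply, Nat.Prime.factorization_self (by norm_num),
      Nat.factorization_eq_zero_of_not_dvd (by norm_num)]
    norm_num)
  obtain ⟨⟨e⟩, -⟩ := Cfsg.Agent.S5383.result CoSuz.zS CoSuz.zS_order CoSuz.Qb CoSuz.gfit_Cz CoSuz.extraspecial_Qb
    (by rw [CoSuz.card_Qb]; norm_num) CoSuz.quotient_iso.some CoSuz.not_weakly_closed B
  have h84 : Nat.card ↥(Subgroup.centralizer ({b} : Set CoSuz.Sq)) = 84 := by
    rw [← Subgroup.centralizer_closure, ← Subgroup.zpowers_eq_closure,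
      show Subgroup.zpowers b = (B : Subgroup CoSuz.Sq) from (Sylow.coe_ofCard _ _).symm, Nat.card_congr e.toEquiv,
      Nat.card_prod, Nat.card_eq_fintype_card, nat_card_alternatingGroup]
    simp only [Nat.card_eq_fintype_card, Fintype.card_fin, Fintype.card_multiplicative, ZMod.card]
    decide +kernel
  set L : Subgroup CoSuz.CA := (Subgroup.centralizer ({gC} : Set Co0)).subgroupOf CoSuz.CA
  have hL : Nat.card ↥(Subgroup.centralizer ({gC} : Set Co0) ⊓ CoSuz.CA) = Nat.card L := by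
    show _ = Nat.card ↥((Subgroup.centralizer ({gC} : Set Co0)).subgroupOf CoSuz.CA)
    rw [← Subgroup.inf_subgroupOf_right]
    exact (Nat.card_congr (Subgroup.subgroupOfEquivOfLe inf_le_right).toEquiv).symm
  have himg : L.map (QuotientGroup.mk' CoSuz.N0) ≤ Subgroup.centralizer ({b} : Set CoSuz.Sq) := by
    rintro _ ⟨x, hx, rfl⟩
    refine Subgroup.mem_centralizer_singleton_iff.2 ?_
    rw [hb, ← map_mul, ← map_mul]
    exact congrArg _ (Subtype.ext (Subgroup.mem_centralizer_singleton_iff.1 (Subgroup.mem_subgroupOf.1 hx)))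
  let f : ↥L →* ↥(L.map (QuotientGroup.mk' CoSuz.N0)) := (QuotientGroup.mk' CoSuz.N0).subgroupMap L
  have hf : Function.Surjective f := (QuotientGroup.mk' CoSuz.N0).subgroupMap_surjective L
  have hker : Nat.card f.ker ≤ 6 := by
    rw [← CoSuz.card_N0]
    refine Nat.card_le_card_of_injective (fun x => (⟨((x : L) : CoSuz.CA), ?_⟩ : CoSuz.N0)) fun x y h =>
      Subtype.ext (Subtype.ext (congrArg (fun z : CoSuz.N0 => (z : CoSuz.CA)) h))
    exact (QuotientGroup.eq_one_iff _).1 (congrArg Subtype.val x.2)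
  rw [hL, ← Subgroup.index_mul_card f.ker, Subgroup.index_ker, mul_comm, MonoidHom.range_eq_top.2 hf,
    Subgroup.card_top]
  exact Nat.mul_le_mul hker ((Subgroup.card_le_of_le himg).trans h84.le)

/-- The three-cycle's image. -/
def y : Spor.Co1 := mk (xC 0)

theorem y_mem : y ∈ C1 := by
  refine Subgroup.mem_centralizer_singleton_iff.2 ?_
  rw [y, ← map_mul, ← map_mul, x_comm]

theorem card_stab_le [Finite Co0] : Nat.card ↥(C1 ⊓ Subgroup.centralizer ({y} : Set Spor.Co1)) ≤ 252 := by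
  have h := two_mul_card_le (S := C1 ⊓ Subgroup.centralizer ({y} : Set Spor.Co1))
    (K := Subgroup.centralizer ({gC} : Set Co0) ⊓ CoSuz.CA)
    (le_inf (Subgroup.center_le_centralizer _) (Subgroup.center_le_centralizer _)) fun x hx => ⟨
      Subgroup.mem_centralizer_singleton_iff.2
        (comm_of_mk (by decide : Odd 7) g_pow (Subgroup.mem_centralizer_singleton_iff.1 hx.1)),
      CoSuz.mem_CA.2 (by
        rw [← x_zero]
        exact comm_of_mk (by decide : Odd 3) (x_cube 0) (Subgroup.mem_centralizer_singleton_iff.1 hx.2))⟩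
  have := h.trans card_comm_a
  omega

/-! ### The double three-cycle -/

theorem free_a (v : leechLattice) : (CoSuz.aC * CoSuz.aC) • v + CoSuz.aC • v + v = 0 := by
  refine Subtype.ext (funext fun p => ?_)
  have hsum : 8 * (((CoSuz.aC * CoSuz.aC) • v + CoSuz.aC • v + v : leechLattice) : Vec) p =
      ∑ q, (v : Vec) q * triple CoSuz.aT (mulP CoSuz.aT CoSuz.aT) q p := by
    rw [AddSubgroup.coe_add, AddSubgroup.coe_add, Pi.add_apply, Pi.add_apply, mul_add, mul_add,
      coord_smul, coord_smul]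
    simp only [triple, mul_add, Finset.sum_add_distrib, (CoSuz.hasT_a.mul CoSuz.hasT_a).ent_eq, CoSuz.hasT_a.ent_eq,
      mul_ite, mul_zero, Finset.sum_ite_eq, Finset.mem_univ, if_true]
    ring
  simp only [a_free, mul_zero, Finset.sum_const_zero] at hsum
  rw [ZeroMemClass.coe_zero, Pi.zero_apply]
  omega

theorem dbl_not_free : ∃ v : leechLattice, (ofT dblT * ofT dblT) • v + ofT dblT • v + v ≠ 0 := by
  obtain ⟨q, p, h⟩ := dbl_fix
  refine ⟨axis q, fun e => h ?_⟩
  have hR := hasT_ofT dbl_ok.1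
  have := congrArg (fun w : leechLattice => (w : Vec) p) e
  simp only [AddSubgroup.coe_add, Pi.add_apply, ZeroMemClass.coe_zero, Pi.zero_apply, ← (hR.mul hR).ent_eq,
    ← hR.ent_eq, axis_val, Pi.single_apply] at this
  rw [triple]
  linarith

/-- The permutation of the product of two three-cycles. -/
def dblP : alternatingGroup (Pt (Fin 5)) := ((dblW.map fun i => cyc (Fin.ofNat 5 i))).prod

theorem dbl_facts : (dblP : Perm (Pt (Fin 5))) ^ 3 = 1 ∧ (dblP : Perm (Pt (Fin 5))) ≠ 1 ∧
    (dblP : Perm (Pt (Fin 5))).support.card ≠ 3 := by decide +kernel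

/-- An odd permutation commuting with it. -/
def oddP : Perm (Pt (Fin 5)) := swap ptU (ptI 1) * swap ptV (ptI 2) * swap (ptI 0) (ptI 3)

theorem odd_facts : Perm.sign oddP = -1 ∧ oddP * (dblP : Perm (Pt (Fin 5))) * oddP⁻¹ = dblP := by decide +kernel

theorem hasT_ev (l : List ℕ) (h : ∀ i ∈ l, i < 5) :
    ∃ u : Co0, HasT u (evS l) ∧ mk u = aSeven (l.map fun i => cyc (Fin.ofNat 5 i)).prod := by
  induction l with
  | nil => exact ⟨1, hasT_one, by simp⟩
  | cons i l ih =>
    obtain ⟨u, hu, e⟩ := ih fun j hj => h j (List.mem_cons_of_mem _ hj)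
    have hi : i < 5 := h i List.mem_cons_self
    have hv : ((Fin.ofNat 5 i : Fin 5) : ℕ) = i := Nat.mod_eq_of_lt hi
    refine ⟨xC (Fin.ofNat 5 i) * u, ?_, by rw [map_mul, e, List.map_cons, List.prod_cons, map_mul, aSeven_cyc]⟩
    have h0 := (hasT_x (Fin.ofNat 5 i)).mul hu
    rwa [hv] at h0

theorem mk_dbl : mk (ofT dblT) = aSeven dblP := by
  obtain ⟨u, hu, e⟩ := hasT_ev dblW (by decide)
  rw [dblP, ← e]
  have hR := hasT_ofT dbl_ok.1
  have h := dbl_ok.2.1
  rw [Bool.or_eq_true, beq_iff_eq, beq_iff_eq] at h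
  refine mk_eq_iff.2 ?_
  rcases h with h | h
  · exact Or.inl (hR.eq (h ▸ hu)).symm
  · refine Or.inr ?_
    rw [hR.eq (h ▸ hu.neg), ← mul_assoc, negCo_sq, one_mul]

theorem dbl_not_conj (c : Spor.Co1) : c * y * c⁻¹ ≠ mk (ofT dblT) := by
  intro h
  obtain ⟨x, rfl⟩ := mk_surjective c
  rw [y, ← map_inv, ← map_mul, ← map_mul, x_zero] at h
  have hR := hasT_ofT dbl_ok.1
  have h3 : ofT dblT ^ 3 = 1 := by
    rw [pow_succ', pow_two]
    exact (hR.mul (hR.mul hR)).eq (eq_of_beq dbl_ok.2.2 ▸ hasT_one)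
  have e := eq_of_mk_odd (by decide : Odd 3) (by rw [conj_pow, CoSuz.a_cube, mul_one, mul_inv_cancel]) h3 h
  obtain ⟨v, hv⟩ := dbl_not_free
  refine hv ?_
  have hv' := congrArg (x • ·) (free_a (x⁻¹ • v))
  simp only [co_add, co_zero, ← mul_smul, mul_inv_cancel, one_smul] at hv'
  rw [← e]
  convert hv' using 3 <;> group

/-! ### The centraliser is the product -/

theorem cube_types (b : Perm (Pt (Fin 5))) (h3 : b ^ 3 = 1) (h1 : b ≠ 1) :
    b.cycleType = {3} ∨ b.cycleType = {3, 3} := by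
  haveI : Fact (Nat.Prime 3) := ⟨by norm_num⟩
  obtain ⟨n, hn⟩ := Perm.cycleType_prime_order (σ := b) (by rw [orderOf_eq_prime h3 h1]; norm_num)
  rw [orderOf_eq_prime h3 h1] at hn
  have hs := b.sum_cycleType
  have hle := Finset.card_le_univ b.support
  rw [hn, Multiset.sum_replicate, smul_eq_mul] at hs
  simp only [Fintype.card_option, Fintype.card_fin] at hle
  obtain rfl | rfl : n = 0 ∨ n = 1 := by omega
  · exact Or.inl (by rw [hn]; rfl)
  · exact Or.inr (by rw [hn]; rfl)

theorem dbl_type : (dblP : Perm (Pt (Fin 5))).cycleType = {3, 3} := by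
  refine (cube_types _ dbl_facts.1 dbl_facts.2.1).resolve_left fun h => dbl_facts.2.2 ?_
  exact Perm.IsThreeCycle.card_support h

/-- The three-cycles. -/
def threes : Finset (alternatingGroup (Pt (Fin 5))) :=
  Finset.univ.filter fun b => (b : Perm (Pt (Fin 5))).cycleType = {3}

theorem card_threes : threes.card = 70 := by
  rw [threes, AlternatingGroup.card_of_cycleType_singleton (by norm_num) (by simp)]
  simp only [Fintype.card_option, Fintype.card_fin]
  decide +kernel

theorem conj_of_type {b : alternatingGroup (Pt (Fin 5))} (h : (b : Perm (Pt (Fin 5))).cycleType = {3, 3}) :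
    ∃ d : alternatingGroup (Pt (Fin 5)), d * dblP * d⁻¹ = b := by
  obtain ⟨d, hd⟩ := isConj_iff.1 (Perm.isConj_of_cycleType_eq (dbl_type.trans h.symm))
  rcases Int.units_eq_one_or (Perm.sign d) with hs | hs
  · exact ⟨⟨d, Perm.mem_alternatingGroup.2 hs⟩, Subtype.ext hd⟩
  · refine ⟨⟨d * oddP, Perm.mem_alternatingGroup.2 (by rw [map_mul, hs, odd_facts.1]; rfl)⟩, Subtype.ext ?_⟩
    show d * oddP * (dblP : Perm (Pt (Fin 5))) * (d * oddP)⁻¹ = _
    rw [mul_inv_rev, show d * oddP * (dblP : Perm (Pt (Fin 5))) * (oddP⁻¹ * d⁻¹) =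
      d * (oddP * (dblP : Perm (Pt (Fin 5))) * oddP⁻¹) * d⁻¹ by group, odd_facts.2, hd]

theorem conj_emb [Finite Co0] (b : alternatingGroup (Pt (Fin 5))) {c : Spor.Co1} (hc : c ∈ C1) :
    c * aSeven b * c⁻¹ ∈ emb.range := by
  set H : Subgroup C1 := emb.range.subgroupOf C1 with hH
  have hcardH : Nat.card H = 17640 := by
    rw [hH, Nat.card_congr (Subgroup.subgroupOfEquivOfLe (by rintro _ ⟨p, rfl⟩; exact emb_mem p)).toEquiv,
      ← Nat.card_congr (MonoidHom.ofInjective emb_injective).toEquiv, card_dom]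
  have hidx : H.index ≤ 5 := by
    have hC : 2 * Nat.card C1 ≤ 196560 :=
      (card_centralizer_mk (by decide : Odd 7) g_pow).trans card_centralizer_g_le
    have := Subgroup.index_mul_card H
    rw [hcardH] at this
    by_contra hlt
    nlinarith
  let ι : alternatingGroup (Pt (Fin 5)) →* C1 := aSeven.codRestrict C1 fun σ =>
    Subgroup.mem_centralizer_singleton_iff.2 (g_commute σ).eq.symm
  let φ : alternatingGroup (Pt (Fin 5)) →* Perm (C1 ⧸ H) := (MulAction.toPermHom C1 (C1 ⧸ H)).comp ι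
  have htriv : φ.ker = ⊤ := by
    haveI : IsSimpleGroup (alternatingGroup (Pt (Fin 5))) := alternatingGroup.isSimpleGroup (by simp)
    refine ((MonoidHom.normal_ker φ).eq_bot_or_eq_top).resolve_left fun e => ?_
    have h1 := Nat.card_le_card_of_injective φ ((MonoidHom.ker_eq_bot_iff φ).1 e)
    rw [Nat.card_perm, ← Subgroup.index_eq_card, nat_card_alternatingGroup] at h1
    have h2 := h1.trans (Nat.factorial_le hidx)
    simp only [Nat.card_eq_fintype_card, Fintype.card_option, Fintype.card_fin] at h2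
    norm_num [Nat.factorial] at h2
  have hk : φ b = 1 := by rw [← MonoidHom.mem_ker, htriv]; exact Subgroup.mem_top _
  have h2 := Equiv.congr_fun hk ((((⟨c, hc⟩ : C1)⁻¹ : C1)) : C1 ⧸ H)
  simp only [φ, MonoidHom.comp_apply, MulAction.toPermHom_apply, MulAction.toPerm_apply, Perm.one_apply,
    MulAction.Quotient.smul_coe, smul_eq_mul] at h2
  have h3 := QuotientGroup.eq.1 h2.symm
  rw [hH, Subgroup.mem_subgroupOf] at h3
  simpa [ι, mul_assoc] using h3

theorem orbit_threes [Finite Co0] {c : Spor.Co1} (hc : c ∈ C1) : ∃ b ∈ threes, c * y * c⁻¹ = aSeven b := by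
  obtain ⟨⟨v, b⟩, hp⟩ := conj_emb (cyc 0) hc
  rw [aSeven_cyc, ← y] at hp
  have hy3 : y ^ 3 = 1 := by rw [y, ← map_pow, x_cube, map_one]
  have hy1 : y ≠ 1 := fun e => by
    have : cyc (0 : Fin 5) = 1 := aSeven_injective (by rw [aSeven_cyc, ← y, e, map_one])
    exact absurd this (by decide +kernel)
  have h3 : ((v, b) : ↥V × alternatingGroup (Pt (Fin 5))) ^ 3 = 1 := emb_injective (by
    rw [map_pow, hp, map_one, conj_pow, hy3, mul_one, mul_inv_cancel])
  have hv : v = 1 := by
    have h7 : v ^ 7 = 1 := card_V ▸ pow_card_eq_one'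
    have h3' : v ^ 3 = 1 := congrArg Prod.fst h3
    calc v = v * (v ^ 3) ^ 2 := by rw [h3', one_pow, mul_one]
      _ = v ^ 7 := by rw [← pow_mul, ← pow_succ']
      _ = 1 := h7
  subst hv
  have hpb : aSeven b = c * y * c⁻¹ := by
    rw [← hp, emb, MonoidHom.noncommCoprod_apply, map_one, one_mul]
  have hb1 : (b : Perm (Pt (Fin 5))) ≠ 1 := fun e => by
    have : b = 1 := Subtype.ext e
    rw [this, map_one] at hpb
    exact hy1 (conj_eq_one_iff.1 hpb.symm)
  have hb3 : (b : Perm (Pt (Fin 5))) ^ 3 = 1 := by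
    rw [← SubmonoidClass.coe_pow, show b ^ 3 = 1 from congrArg Prod.snd h3]; rfl
  rcases cube_types _ hb3 hb1 with ht | ht
  · exact ⟨b, Finset.mem_filter.2 ⟨Finset.mem_univ _, ht⟩, hpb.symm⟩
  · exfalso
    obtain ⟨d, rfl⟩ := conj_of_type ht
    refine dbl_not_conj ((aSeven d)⁻¹ * c) ?_
    rw [mk_dbl, show (aSeven d)⁻¹ * c * y * ((aSeven d)⁻¹ * c)⁻¹ = (aSeven d)⁻¹ * (c * y * c⁻¹) * aSeven d by group,
      ← hpb, map_mul, map_mul, map_inv]
    group

theorem card_C1_le [Finite Co0] : Nat.card C1 ≤ 17640 := by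
  set S : Subgroup C1 := (C1 ⊓ Subgroup.centralizer ({y} : Set Spor.Co1)).subgroupOf C1
  have hS : Nat.card S ≤ 252 := by
    rw [Nat.card_congr (Subgroup.subgroupOfEquivOfLe inf_le_left).toEquiv]
    exact card_stab_le
  have hidx : S.index ≤ 70 := by
    rw [← card_threes, ← Nat.card_eq_finsetCard, Subgroup.index_eq_card]
    choose f hf hfe using fun q : C1 ⧸ S => orbit_threes (c := ((q.out : C1) : Spor.Co1)) q.out.2
    refine Nat.card_le_card_of_injective (fun q => (⟨f q, hf q⟩ : threes)) fun q r e => ?_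
    have he : ((q.out : C1) : Spor.Co1) * y * ((q.out : C1) : Spor.Co1)⁻¹ =
        ((r.out : C1) : Spor.Co1) * y * ((r.out : C1) : Spor.Co1)⁻¹ := by
      rw [hfe q, hfe r, show f q = f r from congrArg Subtype.val e]
    rw [← QuotientGroup.out_eq' q, ← QuotientGroup.out_eq' r, QuotientGroup.eq]
    refine Subgroup.mem_subgroupOf.2 ⟨(q.out⁻¹ * r.out : C1).2, Subgroup.mem_centralizer_singleton_iff.2 ?_⟩
    push_cast
    set a : Spor.Co1 := ((q.out : C1) : Spor.Co1)
    set b : Spor.Co1 := ((r.out : C1) : Spor.Co1)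
    calc a⁻¹ * b * y = a⁻¹ * (b * y * b⁻¹) * b := by group
      _ = y * (a⁻¹ * b) := by rw [← he]; group
  rw [← Subgroup.index_mul_card S]
  exact (Nat.mul_le_mul hidx hS).trans (by norm_num)

/-- The centraliser of a subgroup of order seven. -/
theorem exists_seven [Finite Co0] : ∃ V : Subgroup Spor.Co1, Nat.card V = 7 ∧
    Nonempty (↥(Subgroup.centralizer (V : Set Spor.Co1)) ≃* Multiplicative (ZMod 7) × alternatingGroup (Fin 7)) := by
  refine ⟨V, card_V, ?_⟩
  have hC : Subgroup.centralizer (V : Set Spor.Co1) = C1 := by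
    rw [V, Subgroup.zpowers_eq_closure, Subgroup.centralizer_closure]
  have heq : emb.range = C1 := Subgroup.eq_of_le_of_card_ge (by rintro _ ⟨p, rfl⟩; exact emb_mem p) (by
    rw [← Nat.card_congr (MonoidHom.ofInjective emb_injective).toEquiv, card_dom]
    exact card_C1_le)
  haveI : IsCyclic V := isCyclic_of_prime_card (p := 7) (hp := ⟨by norm_num⟩) card_V
  exact ⟨(((MulEquiv.subgroupCongr hC).trans (MulEquiv.subgroupCongr heq.symm)).trans
    (MonoidHom.ofInjective emb_injective).symm).trans ((card_V ▸ (zmodCyclicMulEquiv (G := V) inferInstance).symm).prodCongr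
      (Equiv.altCongrHom (Fintype.equivFinOfCardEq (by simp))))⟩

end Cfsg.Agent.Spor.CoAlt

end
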