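import Cfsg.Agent.Lib.Spor.CoAlt.Nine
import Cfsg.Agent.Lib.Spor.CoAlt.Seven

/-!
A group isomorphic to the first Conway group has local subgroups `7 × A₇` and `S₃ × A₉`.
-/

set_option autoImplicit false
set_option linter.style.haveILetI false

namespace Cfsg.Agent.Spor.CoAlt

open Cfsg

/-- The two local subgroups. -/
theorem locals_of_isoCo1 {G : Type*} [Group G] [Finite G] (h : Spor.IsoCo1 G) :
    (∃ V : Subgroup G, Nat.card V = 7 ∧
      Nonempty (↥(Subgroup.centralizer (V : Set G)) ≃* Multiplicative (ZMod 7) × alternatingGroup (Fin 7))) ∧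
      ∃ W : Subgroup G, Nat.card W = 3 ∧
        Nonempty (↥(Subgroup.normalizer (W : Set G)) ≃* Equiv.Perm (Fin 3) × alternatingGroup (Fin 9)) := by
  obtain ⟨e⟩ := h
  let f := e.symm
  obtain ⟨V, hV, ⟨a⟩⟩ := exists_seven
  obtain ⟨W, hW, ⟨b⟩⟩ := exists_nine
  refine ⟨⟨V.map f.toMonoidHom, by rw [Subgroup.card_map_of_injective f.injective, hV], ⟨?_⟩⟩,
    W.map f.toMonoidHom, by rw [Subgroup.card_map_of_injective f.injective, hW], ⟨?_⟩⟩
  · have h1 : (Subgroup.centralizer (V : Set Spor.Co1)).map f.toMonoidHom =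
        Subgroup.centralizer ((V.map f.toMonoidHom : Subgroup G) : Set G) := by
      ext x
      obtain ⟨x, rfl⟩ := f.surjective x
      simp [Subgroup.mem_centralizer_iff, ← map_mul]
    exact ((MulEquiv.subgroupCongr h1.symm).trans
      (Subgroup.equivMapOfInjective _ f.toMonoidHom f.injective).symm).trans a
  · have h1 := Subgroup.map_equiv_normalizer_eq W f
    exact ((MulEquiv.subgroupCongr h1.symm).trans
      (Subgroup.equivMapOfInjective _ f.toMonoidHom f.injective).symm).trans b

end Cfsg.Agent.Spor.CoAlt
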