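import Cfsg.Agent.Lib.Spor.CoAlt.Basic
import Cfsg.Agent.Lib.Spor.CoAlt.Data
import Cfsg.Agent.Lib.Spor.Leech.ThreeFix.Data
import Cfsg.Agent.Lib.Spor.Leech.OddFix.Mono

/-! Checks on the rows for the subgroup of order three. -/

set_option autoImplicit false
set_option maxRecDepth 100000

noncomputable section

namespace Cfsg.Agent.Spor.CoAlt

open Cfsg Cfsg.Agent.Spor.Leech Equiv
open Cfsg.Agent.Spor.CoSuz (chkT mulP oneP)

/-- The place of a permutation of three points in the table. -/
def idx3 (σ : Perm (Fin 3)) : ℕ := (if Perm.sign σ = 1 then 0 else 3) + ((σ 0 : Fin 3) : ℕ)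

/-- The rows of a permutation of three points. -/
def row3 (σ : Perm (Fin 3)) : List ℕ := threeT.getD (idx3 σ) []

theorem three_ok : threeT.all chkT = true ∧ threeT.length = 6 := by decide +kernel

theorem three_mul : ∀ σ τ : Perm (Fin 3), (mulP (row3 σ) (row3 τ) == row3 (σ * τ)) = true := by decide +kernel

theorem three_inj : ∀ σ : Perm (Fin 3), σ ≠ 1 → (row3 σ == oneP || row3 σ == negP) = false := by decide +kernel

theorem idx3_lt : ∀ σ : Perm (Fin 3), idx3 σ < 6 := by decide +kernel

theorem nine_ok : chkCarm nineT = true ∧ nineT.length = 7 ∧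
    ((List.range 7).all fun i => !(nineT.getD i [] == oneP || nineT.getD i [] == negP)) = true := by decide +kernel

theorem nine_comm : ((List.range 7).all fun i => chkComm (nineT.getD i []) threeT) = true := by decide +kernel

/-- The cycle of the three points. -/
def r3 : Perm (Fin 3) := swap 0 1 * swap 1 2

theorem row_r3 : row3 r3 = OddFix.permP ThreeFix.g3 := by decide +kernel

theorem r3_pow : r3 ^ 3 = 1 ∧ r3 ≠ 1 ∧ ∀ σ : Perm (Fin 3), σ * r3 * σ⁻¹ = r3 ∨ σ * r3 * σ⁻¹ = r3 ^ 2 := by
  decide +kernel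

end Cfsg.Agent.Spor.CoAlt

end
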