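import Cfsg.Agent.Lib.Spor.CoAlt.Basic
import Cfsg.Agent.Lib.Spor.CoAlt.NineChecks
import Cfsg.Agent.Lib.Spor.Leech.ThreeFix.Quot

/-!
The normaliser of a subgroup of order three of the first Conway group: `S₃ × A₉`.
-/

set_option autoImplicit false
set_option maxRecDepth 100000
set_option linter.style.haveILetI false
set_option Elab.async false

noncomputable section

namespace Cfsg.Agent.Spor.CoAlt

open Cfsg Cfsg.Agent.Lie.Carmichael Cfsg.Agent.Spor.Leech Equiv
open Cfsg.Agent.Spor.CoSuz (HasT chkT mulP oneP ofT hasT_ofT hasT_one)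

/-! ### The symmetric group of degree three -/

theorem hasT_three (σ : Perm (Fin 3)) : HasT (ofT (row3 σ)) (row3 σ) := by
  refine hasT_ofT (List.all_eq_true.1 three_ok.1 _ ?_)
  rw [row3, List.getD_eq_getElem _ _ (three_ok.2.symm ▸ idx3_lt σ)]
  exact List.getElem_mem _

/-- The symmetric group of degree three in the quotient. -/
def sThree : Perm (Fin 3) →* Spor.Co1 :=
  mk.comp (MonoidHom.mk' (fun σ => ofT (row3 σ)) fun σ τ => by
    have h := eq_of_beq (three_mul σ τ)
    exact (hasT_three (σ * τ)).eq (h ▸ (hasT_three σ).mul (hasT_three τ)))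

theorem sThree_apply (σ : Perm (Fin 3)) : sThree σ = mk (ofT (row3 σ)) := rfl

theorem sThree_injective : Function.Injective sThree := by
  refine (injective_iff_map_eq_one _).2 fun σ hσ => ?_
  by_contra hne
  have h := rows_of_mk_one (hasT_three σ) hσ
  rw [three_inj σ hne] at h
  exact Bool.noConfusion h

/-- The element of order three. -/
def w : Spor.Co1 := mk ThreeFix.P0

theorem sThree_r3 : sThree r3 = w := by
  rw [sThree_apply, w]
  exact congrArg mk ((row_r3 ▸ hasT_three r3).eq (OddFix.hasT_perm ThreeFix.g3_checks.2.1 ThreeFix.gen_mem rfl))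

theorem P0_cube : ThreeFix.P0 ^ 3 = 1 := ThreeFix.P0_pow

theorem order_w : orderOf w = 3 := by
  haveI : Fact (Nat.Prime 3) := ⟨by norm_num⟩
  rw [← sThree_r3, orderOf_injective sThree sThree_injective]
  exact orderOf_eq_prime r3_pow.1 r3_pow.2.1

/-- The subgroup of order three. -/
def W : Subgroup Spor.Co1 := Subgroup.zpowers w

theorem card_W : Nat.card W = 3 := by rw [W, Nat.card_zpowers, order_w]

/-! ### The alternating group -/

theorem hasT_nine (i : Fin 7) : HasT (lift nineT i) (nineT.getD i []) :=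
  (lift_spec nine_ok.1 (nine_ok.2.1.symm ▸ i.2)).1

theorem exists_aNine : ∃ f : alternatingGroup (Pt (Fin 7)) →* Spor.Co1, ∀ i, f (cyc i) = mk (lift nineT i) :=
  exists_hom (fun i => by rw [← map_pow, (lift_spec nine_ok.1 (nine_ok.2.1.symm ▸ i.2)).2.1, map_one])
    (fun i j h => by
      rw [← map_mul]
      exact (lift_spec nine_ok.1 (nine_ok.2.1.symm ▸ i.2)).2.2 j (nine_ok.2.1.symm ▸ j.2) (Fin.val_ne_of_ne h))

/-- The alternating group of degree nine in the quotient. -/
def aNine : alternatingGroup (Pt (Fin 7)) →* Spor.Co1 := exists_aNine.choose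

theorem aNine_injective : Function.Injective aNine := by
  refine hom_injective (i := (0 : Fin 7)) (by simp) fun h => ?_
  rw [aNine, exists_aNine.choose_spec] at h
  have h1 := rows_of_mk_one (hasT_nine 0) h
  have h2 := List.all_eq_true.1 nine_ok.2.2 0 (by simp)
  simp only [Bool.not_eq_true'] at h2
  rw [Fin.val_zero, h2] at h1
  exact Bool.noConfusion h1

theorem comm_parts (σ : Perm (Fin 3)) (τ : alternatingGroup (Pt (Fin 7))) : Commute (sThree σ) (aNine τ) := by
  refine comm_range (fun i => ?_) τ
  rw [aNine, exists_aNine.choose_spec, sThree_apply]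
  have h := List.all_eq_true.1 (List.all_eq_true.1 nine_comm i (List.mem_range.2 i.2)) (row3 σ) (by
    rw [row3, List.getD_eq_getElem _ _ (three_ok.2.symm ▸ idx3_lt σ)]
    exact List.getElem_mem _)
  exact (mk_comm (hasT_nine i) (hasT_three σ) h).symm

/-! ### The normaliser -/

theorem card_Cent_le : Nat.card ↥(OddFix.Cent ThreeFix.P0) ≤ 6 * 181440 := by
  let φ : Fin 2 × Fin 3 → Co0 := fun p => (if p.1 = 0 then 1 else negCo) * ThreeFix.P0 ^ (p.2 : ℕ)
  have hmod : ∀ i : ℕ, ThreeFix.P0 ^ i = ThreeFix.P0 ^ (i % 3) := fun i => by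
    conv_lhs => rw [← Nat.mod_add_div i 3]
    rw [pow_add, pow_mul, P0_cube, one_pow, mul_one]
  have hk : Nat.card ↥ThreeFix.rho.ker ≤ 6 := by
    have hsub : ∀ g : ↥ThreeFix.rho.ker, ((g : ↥(OddFix.Cent ThreeFix.P0)) : Co0) ∈ Set.range φ := fun g => by
      obtain ⟨i, h | h⟩ := ThreeFix.rho_ker g g.2
      · exact ⟨(0, ⟨i % 3, Nat.mod_lt _ (by norm_num)⟩), by simp [φ, h, ← hmod]⟩
      · exact ⟨(1, ⟨i % 3, Nat.mod_lt _ (by norm_num)⟩), by simp [φ, h, ← hmod]⟩
    refine (Nat.card_le_card_of_injective (fun g => (⟨_, hsub g⟩ : Set.range φ)) fun a b e => ?_).trans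
      ((Finite.card_range_le φ).trans (by simp))
    exact Subtype.ext (Subtype.ext (congrArg (fun y : Set.range φ => (y : Co0)) e))
  rw [← Subgroup.index_mul_card ThreeFix.rho.ker, Subgroup.index_ker,
    MonoidHom.range_eq_top.2 ThreeFix.rho_surjective, Subgroup.card_top, nat_card_alternatingGroup,
    Nat.card_eq_fintype_card, Fintype.card_fin]
  have : (Nat.factorial 9) / 2 = 181440 := by decide +kernel
  rw [this, mul_comm]
  exact Nat.mul_le_mul_right _ hk

theorem centralizer_W : Subgroup.centralizer (W : Set Spor.Co1) = Subgroup.centralizer ({w} : Set Spor.Co1) := by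
  rw [W, Subgroup.zpowers_eq_closure, Subgroup.centralizer_closure]

theorem card_normalizer_le [Finite Co0] : Nat.card ↥(Subgroup.normalizer (W : Set Spor.Co1)) ≤ 6 * 181440 := by
  have hC : 2 * Nat.card ↥(Subgroup.centralizer (W : Set Spor.Co1)) ≤ 6 * 181440 := by
    rw [centralizer_W]
    exact (card_centralizer_mk (by decide : Odd 3) P0_cube).trans card_Cent_le
  have hcyc : IsCyclic W := isCyclic_of_prime_card (p := 3) (hp := ⟨by norm_num⟩) card_W
  have haut : Nat.card (MulAut W) = 2 := by
    rw [IsCyclic.card_mulAut, card_W]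
    decide +kernel
  set N := Subgroup.normalizer (W : Set Spor.Co1)
  have hker : Nat.card (W.normalizerMonoidHom).ker ≤ Nat.card ↥(Subgroup.centralizer (W : Set Spor.Co1)) := by
    rw [Subgroup.normalizerMonoidHom_ker]
    exact Nat.card_le_card_of_injective (fun x => (⟨((x : ↥N) : Spor.Co1), x.2⟩ : Subgroup.centralizer (W : Set Spor.Co1)))
      fun a b e => Subtype.ext (Subtype.ext (congrArg (fun y : Subgroup.centralizer (W : Set Spor.Co1) => (y : Spor.Co1)) e))
  rw [← Subgroup.index_mul_card (W.normalizerMonoidHom).ker, Subgroup.index_ker]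
  refine le_trans (Nat.mul_le_mul ((Subgroup.card_le_card_group _).trans haut.le) hker) ?_
  exact hC

/-- The normaliser of a subgroup of order three. -/
theorem exists_nine [Finite Co0] : ∃ W : Subgroup Spor.Co1, Nat.card W = 3 ∧
    Nonempty (↥(Subgroup.normalizer (W : Set Spor.Co1)) ≃* Perm (Fin 3) × alternatingGroup (Fin 9)) := by
  refine ⟨W, card_W, ?_⟩
  let F := sThree.noncommCoprod aNine comm_parts
  have hF : Function.Injective F := prod_injective sThree_injective aNine_injective comm_parts
    (alternatingGroup.center_eq_bot (by simp))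
  have hle : F.range ≤ Subgroup.normalizer (W : Set Spor.Co1) := by
    rintro _ ⟨⟨σ, τ⟩, rfl⟩
    rw [MonoidHom.noncommCoprod_apply]
    refine mul_mem ?_ ?_
    · rw [Subgroup.mem_normalizer_iff_map_conj_eq]
      have key : (sThree σ) * w * (sThree σ)⁻¹ ∈ W := by
        rw [← sThree_r3, ← map_mul, ← map_inv, ← map_mul]
        rcases r3_pow.2.2 σ with e | e <;> rw [e]
        · rw [sThree_r3]; exact Subgroup.mem_zpowers w
        · rw [map_pow, sThree_r3]; exact pow_mem (Subgroup.mem_zpowers w) 2
      refine Subgroup.eq_of_le_of_card_ge ?_ (le_of_eq (Subgroup.card_map_of_injective (MulEquiv.injective _)).symm)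
      rw [W, MonoidHom.map_zpowers, Subgroup.zpowers_le]
      exact key
    · refine Subgroup.centralizer_le_normalizer _ ?_
      rw [centralizer_W, Subgroup.mem_centralizer_singleton_iff, ← sThree_r3]
      exact (comm_parts r3 τ).eq.symm
  have hcard : Nat.card (Perm (Fin 3) × alternatingGroup (Pt (Fin 7))) = 6 * 181440 := by
    rw [Nat.card_prod, Nat.card_perm, Nat.card_eq_fintype_card, Fintype.card_fin, nat_card_alternatingGroup]
    simp only [Nat.card_eq_fintype_card, Fintype.card_option, Fintype.card_fin]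
    decide +kernel
  have heq : F.range = Subgroup.normalizer (W : Set Spor.Co1) := Subgroup.eq_of_le_of_card_ge hle (by
    rw [← Nat.card_congr (MonoidHom.ofInjective hF).toEquiv, hcard]
    exact card_normalizer_le)
  exact ⟨((MulEquiv.subgroupCongr heq.symm).trans (MonoidHom.ofInjective hF).symm).trans
    ((MulEquiv.refl _).prodCongr (Equiv.altCongrHom (Fintype.equivFinOfCardEq (by simp))))⟩

end Cfsg.Agent.Spor.CoAlt

end
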