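import Cfsg.Agent.Lib.Spor.CoAlt.Spec

/-! The enumeration for target 2 gives only that target. -/

set_option autoImplicit false
set_option maxRecDepth 100000

namespace Cfsg.Agent.Spor.CoAlt

open Cfsg.Agent.Spor.Leech

theorem odd2_0 : ((oddPart (spec 2) 0).all (Nat.beq (tgtE 2))) = true := by decide +kernel

theorem odd2_1 : ((oddPart (spec 2) 1).all (Nat.beq (tgtE 2))) = true := by decide +kernel

theorem odd2_2 : ((oddPart (spec 2) 2).all (Nat.beq (tgtE 2))) = true := by decide +kernel

theorem odd2_3 : ((oddPart (spec 2) 3).all (Nat.beq (tgtE 2))) = true := by decide +kernel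

theorem odd2_4 : ((oddPart (spec 2) 4).all (Nat.beq (tgtE 2))) = true := by decide +kernel

theorem odd2_5 : ((oddPart (spec 2) 5).all (Nat.beq (tgtE 2))) = true := by decide +kernel

theorem odd2_6 : ((oddPart (spec 2) 6).all (Nat.beq (tgtE 2))) = true := by decide +kernel

theorem odd2_7 : ((oddPart (spec 2) 7).all (Nat.beq (tgtE 2))) = true := by decide +kernel

theorem odd2_8 : ((oddPart (spec 2) 8).all (Nat.beq (tgtE 2))) = true := by decide +kernel

theorem odd2_9 : ((oddPart (spec 2) 9).all (Nat.beq (tgtE 2))) = true := by decide +kernel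

theorem odd2_10 : ((oddPart (spec 2) 10).all (Nat.beq (tgtE 2))) = true := by decide +kernel

theorem odd2_11 : ((oddPart (spec 2) 11).all (Nat.beq (tgtE 2))) = true := by decide +kernel

theorem odd2_12 : ((oddPart (spec 2) 12).all (Nat.beq (tgtE 2))) = true := by decide +kernel

theorem odd2_13 : ((oddPart (spec 2) 13).all (Nat.beq (tgtE 2))) = true := by decide +kernel

theorem odd2_14 : ((oddPart (spec 2) 14).all (Nat.beq (tgtE 2))) = true := by decide +kernel

theorem odd2_15 : ((oddPart (spec 2) 15).all (Nat.beq (tgtE 2))) = true := by decide +kernel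

theorem oct2_0 : ((octPart (spec 2) 0).all (Nat.beq (tgtE 2))) = true := by decide +kernel

theorem oct2_1 : ((octPart (spec 2) 1).all (Nat.beq (tgtE 2))) = true := by decide +kernel

theorem oct2_2 : ((octPart (spec 2) 2).all (Nat.beq (tgtE 2))) = true := by decide +kernel

theorem pair2 : ((pairList (spec 2)).all (Nat.beq (tgtE 2))) = true := by decide +kernel

/-- The only vector with the prescribed products. -/
theorem only2 {x : ℕ} (h : x ∈ shortList (spec 2)) : x = tgtE 2 := by
  have key : ∀ {l : List ℕ}, l.all (Nat.beq (tgtE 2)) = true → x ∈ l → x = tgtE 2 := fun hl hx =>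
    (Nat.eq_of_beq_eq_true (List.all_eq_true.1 hl x hx)).symm
  rcases shortList_parts h with ⟨i, hi, hx⟩ | ⟨i, hi, hx⟩ | hx
  · interval_cases i
    · exact key odd2_0 hx
    · exact key odd2_1 hx
    · exact key odd2_2 hx
    · exact key odd2_3 hx
    · exact key odd2_4 hx
    · exact key odd2_5 hx
    · exact key odd2_6 hx
    · exact key odd2_7 hx
    · exact key odd2_8 hx
    · exact key odd2_9 hx
    · exact key odd2_10 hx
    · exact key odd2_11 hx
    · exact key odd2_12 hx
    · exact key odd2_13 hx
    · exact key odd2_14 hx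
    · exact key odd2_15 hx
  · interval_cases i
    · exact key oct2_0 hx
    · exact key oct2_1 hx
    · exact key oct2_2 hx
  · exact key pair2 hx

end Cfsg.Agent.Spor.CoAlt
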