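import Cfsg.Agent.Lib.Spor.CoAlt.SevenChecks
import Cfsg.Agent.Lib.Spor.CoAlt.Scan0
import Cfsg.Agent.Lib.Spor.CoAlt.Scan1
import Cfsg.Agent.Lib.Spor.CoAlt.Scan2
import Cfsg.Agent.Lib.Spor.Leech.CrossMaximal
import Cfsg.Agent.Lib.Spor.Leech.OddFix.Lattice

/-! The centraliser of the element of order seven in the lattice automorphisms has at most 196560 members. -/

set_option autoImplicit false
set_option maxRecDepth 100000
set_option linter.style.haveILetI false

noncomputable section

namespace Cfsg.Agent.Spor.CoAlt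

open Cfsg Cfsg.Agent.Spor.Leech
open Cfsg.Agent.Spor.CoSuz (HasT chkT mulP oneP ofT hasT_ofT hasT_one colP)

/-- The element of order seven. -/
def gC : Co0 := ofT gT

theorem hasT_g : HasT gC gT := hasT_ofT g_ok.1

theorem vec_spec {k : ℕ} (hk : k < 24) : inL (ofList (vecL k)) = true ∧ sqNorm (ofList (vecL k)) = 32 := by
  have h := List.all_eq_true.1 vec_ok k (List.mem_range.2 hk)
  rwa [Bool.and_eq_true, decide_eq_true_eq] at h

/-- A stored vector. -/
def pnt (k : Fin 24) : leechLattice := ⟨ofList (vecL k), mem_of_inL (vec_spec k.2).1⟩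

theorem pnt_norm (k : Fin 24) : sqNorm (pnt k : Vec) = 32 := (vec_spec k.2).2

theorem g_step {j i : ℕ} (hj : j < 4) (hi : i < 5) :
    gC • pnt ⟨6 * j + i, by omega⟩ = pnt ⟨6 * j + i + 1, by omega⟩ := by
  have h := Nat.eq_of_beq_eq_true
    (List.all_eq_true.1 (List.all_eq_true.1 vec_step j (List.mem_range.2 hj)) i (List.mem_range.2 hi))
  have ha := hasT_g.app (v := pnt ⟨6 * j + i, by omega⟩) (by rw [pnt_norm]; norm_num)
  refine Subtype.ext (encV_inj (small_of_norm (by rw [co_norm, pnt_norm]; norm_num))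
    (small_of_norm (by rw [pnt_norm]; norm_num)) ?_)
  rw [← ha]
  exact h

theorem fix_orbit {c : Co0} (hc : c * gC = gC * c) {j : ℕ} (hj : j < 4) (h : c • pnt ⟨6 * j, by omega⟩ = pnt ⟨6 * j, by omega⟩) :
    ∀ i, (hi : i < 6) → c • pnt ⟨6 * j + i, by omega⟩ = pnt ⟨6 * j + i, by omega⟩ := by
  intro i
  induction i with
  | zero => exact fun _ => h
  | succ i ih =>
    intro hi
    have e := g_step (i := i) hj (by omega)
    show c • pnt ⟨6 * j + i + 1, by omega⟩ = pnt ⟨6 * j + i + 1, by omega⟩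
    rw [← e, ← mul_smul, hc, mul_smul, ih (by omega)]

theorem eq_one_of_fix {c : Co0} (h : ∀ k, c • pnt k = pnt k) : c = 1 := by
  refine Subtype.ext (Equiv.ext fun x => Subtype.ext (funext fun p => ?_))
  show ((c • x : leechLattice) : Vec) p = (x : Vec) p
  have key : ∀ k, ∑ q, (pnt k : Vec) q * ((c • x : leechLattice) : Vec) q = ∑ q, (pnt k : Vec) q * (x : Vec) q :=
    fun k => by
      have := co_dot c (pnt k) x
      rwa [h] at this
  set a : Fin 24 → ℤ := fun k => (invT.getD (Golay.idx p) []).getD k.val 0 with ha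
  have hc : ∀ q, ∑ k : Fin 24, a k * (pnt k : Vec) q = if q = p then invD else 0 := fun q => by
    rw [← inv_chk p q, OddFix.sum_range_map, Finset.sum_range]
    rfl
  have e : ∀ y : Vec, invD * y p = ∑ k : Fin 24, a k * ∑ q, (pnt k : Vec) q * y q := fun y => by
    calc invD * y p = ∑ q, (if q = p then invD else 0) * y q := by simp
      _ = ∑ q, (∑ k : Fin 24, a k * (pnt k : Vec) q) * y q := by simp only [hc]
      _ = _ := by
        simp only [Finset.sum_mul, Finset.mul_sum, mul_assoc]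
        exact Finset.sum_comm
  refine mul_left_cancel₀ invD_ne ?_
  rw [e, e]
  simp only [key]

theorem tgt_fixed {c : Co0} (h0 : ∀ i, (hi : i < 6) → c • pnt ⟨6 * 0 + i, by omega⟩ = pnt ⟨6 * 0 + i, by omega⟩)
    {j : ℕ} (hj : j < 3) : c • pnt ⟨6 * (j + 1), by omega⟩ = pnt ⟨6 * (j + 1), by omega⟩ := by
  set v := c • pnt ⟨6 * (j + 1), by omega⟩ with hv
  have hn : sqNorm (v : Vec) = 32 := (co_norm c _).trans (pnt_norm _)
  have hd : ∀ bc ∈ cond j, dotInt (ofList bc.1) (v : Vec) = bc.2 := fun bc hbc => by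
    obtain ⟨i, hi, rfl⟩ := List.mem_map.1 hbc
    rw [List.mem_range] at hi
    have h1 := co_dot c (pnt ⟨6 * 0 + i, by omega⟩) (pnt ⟨6 * (j + 1), by omega⟩)
    rw [h0 i hi, ← hv] at h1
    have h2 := of_decide_eq_true (List.all_eq_true.1 (List.all_eq_true.1 vec_prod j (List.mem_range.2 hj)) i
      (List.mem_range.2 hi))
    show dotInt (ofList (vecL i)) (v : Vec) = _
    rw [← h2]
    simpa [pnt, Nat.zero_add, Nat.mul_zero] using h1
  have hx := mem_shortList (fits_of_chk (List.all_eq_true.1 spec_ok j (List.mem_range.2 hj))) v.2 hn (dot_comb _ hd)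
  have he : encV (v : Vec) = tgtE j := by
    obtain rfl | rfl | rfl : j = 0 ∨ j = 1 ∨ j = 2 := by omega
    · exact only0 hx
    · exact only1 hx
    · exact only2 hx
  exact Subtype.ext (encV_inj (small_of_norm (by rw [hn]; norm_num)) (small_of_norm (by rw [pnt_norm]; norm_num)) he)

/-- The bound. -/
theorem card_centralizer_g_le [Finite Co0] : Nat.card ↥(Subgroup.centralizer ({gC} : Set Co0)) ≤ 196560 := by
  set C := Subgroup.centralizer ({gC} : Set Co0)
  rw [← CrossMaximal.ncard_shell, ← Nat.card_coe_set_eq]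
  haveI : Finite ↥({v : leechLattice | sqNorm (v : Vec) = 32}) := Set.Finite.to_subtype
    (Set.finite_of_ncard_ne_zero (by rw [CrossMaximal.ncard_shell]; norm_num))
  refine Nat.card_le_card_of_injective
    (fun c : C => (⟨(c : Co0) • pnt ⟨6 * 0, by omega⟩, (co_norm _ _).trans (pnt_norm _)⟩ :
      ↥({v : leechLattice | sqNorm (v : Vec) = 32}))) fun a b e => ?_
  set c : Co0 := (a : Co0)⁻¹ * (b : Co0) with hcdef
  have hc : c * gC = gC * c := Subgroup.mem_centralizer_singleton_iff.1 (mul_mem (inv_mem a.2) b.2)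
  have h00 : c • pnt ⟨6 * 0, by omega⟩ = pnt ⟨6 * 0, by omega⟩ := by
    rw [hcdef, mul_smul, inv_smul_eq_iff]
    exact (congrArg Subtype.val e).symm
  have h0 := fix_orbit hc (by omega : 0 < 4) h00
  have hall : ∀ k, c • pnt k = pnt k := fun k => by
    have hj : k.val / 6 < 4 := by omega
    have hs : c • pnt ⟨6 * (k.val / 6), by omega⟩ = pnt ⟨6 * (k.val / 6), by omega⟩ := by
      rcases Nat.eq_zero_or_pos (k.val / 6) with h | h
      · simp only [h]; exact h00
      · obtain ⟨j, hj'⟩ := Nat.exists_eq_succ_of_ne_zero h.ne'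
        simp only [hj']
        exact tgt_fixed h0 (by omega)
    have := fix_orbit hc hj hs (k.val % 6) (Nat.mod_lt _ (by norm_num))
    rwa [show (⟨6 * (k.val / 6) + k.val % 6, by omega⟩ : Fin 24) = k from Fin.ext (Nat.div_add_mod k.val 6)] at this
  exact Subtype.ext (eq_of_inv_mul_eq_one (eq_one_of_fix hall))

end Cfsg.Agent.Spor.CoAlt

end
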