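import Cfsg.Agent.Lib.Spor.Leech.Enum
import Cfsg.Agent.Lib.Spor.Leech.Cert
import Cfsg.Agent.Lib.Spor.CoAlt.Data

/-! The combined conditions and their data. -/

set_option autoImplicit false
set_option maxRecDepth 100000

namespace Cfsg.Agent.Spor.CoAlt

open Cfsg.Agent.Spor.Leech

/-- A stored vector. -/
def vecL (k : ℕ) : List ℤ := vecT.getD k []

/-- The products for a target. -/
def prodT (j : ℕ) : List ℤ := if j = 0 then prodT0 else if j = 1 then prodT1 else prodT2

/-- The conditions for a target. -/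
def cond (j : ℕ) : List (List ℤ × ℤ) := (List.range 6).map fun i => (vecL i, (prodT j).getD i 0)

/-- The data for a target. -/
def specOf (x : List (ℕ × ℕ) × List ℕ × ℕ × ℕ × ℕ × ℕ) : Spec :=
  ⟨x.1, x.2.1, x.2.2.1, x.2.2.2.1, x.2.2.2.2.1, x.2.2.2.2.2⟩

/-- The three data. -/
def spec (j : ℕ) : Spec := specOf (if j = 0 then specT0 else if j = 1 then specT1 else specT2)

/-- A target. -/
def tgtE (j : ℕ) : ℕ := encV (ofList (vecL (6 * (j + 1))))

theorem spec_ok : ((List.range 3).all fun j => chkSpec (combU (cond j)) (combC (cond j)) (spec j)) = true := by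
  decide +kernel

end Cfsg.Agent.Spor.CoAlt
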