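import Cfsg.Agent.Lib.Spor.CoAlt.Basic
import Cfsg.Agent.Lib.Spor.CoAlt.Spec
import Cfsg.Agent.Lib.Spor.CoSuz.Elems

/-! Checks on the rows for the subgroup of order seven. -/

set_option autoImplicit false
set_option maxRecDepth 100000

noncomputable section

namespace Cfsg.Agent.Spor.CoAlt

open Cfsg Cfsg.Agent.Spor.Leech
open Cfsg.Agent.Spor.CoSuz (chkT mulP oneP negX ent colP)

/-- The product of a word in the five lifts. -/
def evS : List ℕ → List ℕ
  | [] => oneP
  | i :: l => mulP (sevenT.getD i []) (evS l)

/-- The word of the product of two three-cycles. -/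
def dblW : List ℕ := [3, 1, 2, 3, 1, 0]

theorem seven_ok : chkCarm sevenT = true ∧ sevenT.length = 5 ∧ sevenT.getD 0 [] = CoSuz.aT := by decide +kernel

theorem g_ok : chkT gT = true ∧
    (mulP gT (mulP gT (mulP gT (mulP gT (mulP gT (mulP gT gT))))) == oneP) = true ∧
    (gT == oneP || gT == negP) = false := by decide +kernel

theorem g_comm : (sevenT.all fun T => mulP T gT == mulP gT T) = true := by decide +kernel

theorem dbl_ok : chkT dblT = true ∧ (dblT == evS dblW || dblT == (evS dblW).map negX) = true ∧
    (mulP dblT (mulP dblT dblT) == oneP) = true := by decide +kernel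

/-- The sum of the identity, an element and its square on an axis. -/
def triple (T U : List ℕ) (q p : GolayPt) : ℤ := ent U q p + ent T q p + (if p = q then 8 else 0)

theorem a_free : ∀ q p : GolayPt, triple CoSuz.aT (mulP CoSuz.aT CoSuz.aT) q p = 0 := by decide +kernel

theorem dbl_fix : ∃ q p : GolayPt, triple dblT (mulP dblT dblT) q p ≠ 0 := by decide +kernel

theorem vec_ok : ((List.range 24).all fun k =>
    inL (ofList (vecL k)) && decide (sqNorm (ofList (vecL k)) = 32)) = true := by decide +kernel

theorem vec_step : ((List.range 4).all fun j => (List.range 5).all fun i =>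
    Nat.beq (colP gT (encV (ofList (vecL (6 * j + i))))) (encV (ofList (vecL (6 * j + i + 1))))) = true := by
  decide +kernel

theorem vec_prod : ((List.range 3).all fun j => (List.range 6).all fun i =>
    decide (dotInt (ofList (vecL i)) (ofList (vecL (6 * (j + 1)))) = (prodT j).getD i 0)) = true := by decide +kernel

theorem inv_chk : ∀ p q : GolayPt, ((List.range 24).map fun k =>
    (invT.getD (Golay.idx p) []).getD k 0 * ofList (vecL k) q).sum = if q = p then invD else 0 := by decide +kernel

theorem invD_ne : invD ≠ 0 := by decide +kernel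

end Cfsg.Agent.Spor.CoAlt

end
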